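import Groth.Agent.SubNhd19.Spread
import Groth.Agent.MultLift19.Basic

/-!
# Fibrewise relations of subgroups read over the base
-/

universe u

open CategoryTheory CategoryTheory.Limits MonoidalCategory CartesianMonoidalCategory MonObj AlgebraicGeometry

namespace Groth.Agent.SubNhd19

open GrpSchLib.SubgroupEqLocus (Le)
open DSPtsLib (theta theta_bijective theta_mul)

variable {S T : Scheme.{u}} (g : T ⟶ S) {G A B : Over S} [GrpObj G] [GrpObj A] [GrpObj B] (iA : A ⟶ G) (iB : B ⟶ G)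

/-- A scheme over `g` seen over `T`. -/
theorem exists_over {Y : Over S} (q : Y ⟶ Over.mk g) :
    ∃ (X : Over T) (e : Y ⟶ (Over.map g).obj X) (e' : (Over.map g).obj X ⟶ Y), e ≫ e' = 𝟙 Y :=
  ⟨Over.mk q.left, Over.homMk (𝟙 _) (by
      show 𝟙 _ ≫ q.left ≫ g = Y.hom
      rw [Category.id_comp]; exact Over.w q),
    Over.homMk (𝟙 _) (by
      show 𝟙 _ ≫ Y.hom = q.left ≫ g
      rw [Category.id_comp]; exact (Over.w q).symm), Over.OverMorphism.ext (Category.id_comp _)⟩

omit [GrpObj G] [GrpObj A] [GrpObj B] in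
theorem le_of_map (θ : Red.bc g B ⟶ Red.bc g A) (hθ : θ ≫ (Over.pullback g).map iA = (Over.pullback g).map iB) :
    Le iA iB g := by
  intro Y q b
  obtain ⟨X, e, e', he⟩ := exists_over g q
  obtain ⟨b₁, hb₁⟩ := MultDefLib.theta_surjective g (e' ≫ b)
  refine ⟨e ≫ theta g (b₁ ≫ θ), ?_⟩
  rw [Category.assoc, ← MultLift19.theta_map, Category.assoc, hθ, MultLift19.theta_map, hb₁, Category.assoc,
    reassoc_of% he]

omit [GrpObj A] [GrpObj B] in
theorem cen_of_map
    (h : ∀ (X : Over T) (x : X ⟶ Red.bc g G) (y : X ⟶ Red.bc g A),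
      x * (y ≫ (Over.pullback g).map iA) = (y ≫ (Over.pullback g).map iA) * x) :
    ∀ (Y : Over S) (_ : Y ⟶ Over.mk g) (x : Y ⟶ G) (a : Y ⟶ A), x * (a ≫ iA) = (a ≫ iA) * x := by
  intro Y q x a
  obtain ⟨X, e, e', he⟩ := exists_over g q
  obtain ⟨x₁, hx₁⟩ := MultDefLib.theta_surjective g (e' ≫ x)
  obtain ⟨a₁, ha₁⟩ := MultDefLib.theta_surjective g (e' ≫ a)
  have := congrArg (fun m => e ≫ theta g m) (h X x₁ a₁)
  simp only [theta_mul, MultLift19.theta_map, hx₁, ha₁, MonObj.comp_mul, Category.assoc, reassoc_of% he] at this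
  exact this

omit [GrpObj A] [GrpObj B] [GrpObj G] in
theorem exists_map_of_le (h : Le iA iB g) :
    ∃ θ : Red.bc g B ⟶ Red.bc g A, θ ≫ (Over.pullback g).map iA = (Over.pullback g).map iB := by
  obtain ⟨a, ha⟩ := h ((Over.map g).obj (Red.bc g B)) (Over.homMk (Red.bc g B).hom rfl) (theta g (𝟙 _))
  obtain ⟨θ, hθ⟩ := MultDefLib.theta_surjective g a
  refine ⟨θ, (theta_bijective g).1 ?_⟩
  rw [MultLift19.theta_map, hθ, ha, ← MultLift19.theta_map, Category.id_comp]

end Groth.Agent.SubNhd19
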