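import Groth.Agent.GrpSchLib.ClosedFibreFixed

/-!
# Actions trivial on the closed fibre of a Noetherian local test ring

Variant of `GrpSchLib.ClosedFibreFixed.fixed_of_closedFibre` without finiteness of the space acted on, for Noetherian
rings: the coefficient ideal is then finitely generated whatever the number of functions.
-/

universe u

open CategoryTheory CategoryTheory.Limits MonoidalCategory CartesianMonoidalCategory MonObj AlgebraicGeometry

namespace Groth.Agent.SubNhd19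

open GrpSchLib GrpSchLib.DiagActionRigid GrpSchLib.ClosedFibreFixed
open DSPtsLib (CoordM)
open GrpSchLib.FibreActionRigid (sub_mem_closure mem_map_of_coeff coeff_mem pair_fixed)
open GrpSchLib.HomKernelIdeal (evalChar)

variable {S : Scheme.{u}} {R : Type u} [CommRing R] {β : Spec (CommRingCat.of R) ⟶ S}
  {G X : Over S} [GrpObj G] (a : AlgGrp.Action G X) {M : Type} [AddCommGroup M]
  (χ : ∀ (A : Type u) [CommRing A] [Algebra R A], (CoordM.{u} M →+* A) → (sp β A ⟶ G))
  (hnat : ∀ {A A' : Type u} [CommRing A] [Algebra R A] [CommRing A'] [Algebra R A'] (φ : A →ₐ[R] A')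
    (f : CoordM.{u} M →+* A), spm β φ ≫ χ A f = χ A' (φ.toRingHom.comp f))
  (hmul : ∀ {A : Type u} [CommRing A] [Algebra R A] (f g h : CoordM.{u} M →+* A),
    (∀ m, h (MonoidAlgebra.single m 1) = f (MonoidAlgebra.single m 1) * g (MonoidAlgebra.single m 1)) →
      χ A f * χ A g = χ A h)
include hnat hmul

/-- An action trivial over the closed point fixes every point with values in the local ring. -/
theorem fixed_of_closedFibre [IsLocalRing R] [AddGroup.FG M] [IsNoetherianRing R]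
    (hfibm : ∀ (T : Type u) [CommRing T] [Algebra R T], (∀ r ∈ IsLocalRing.maximalIdeal R, algebraMap R T r = 0) →
      ∀ (f : CoordM.{u} M →+* T) (z : sp β T ⟶ X), lift (χ T f) z ≫ a.act = z)
    (x : sp β R ⟶ X) (T : Type u) [CommRing T] [Algebra R T] (f : CoordM.{u} M →+* T) :
    lift (χ T f) (spm β (Algebra.ofId R T) ≫ x) ≫ a.act = spm β (Algebra.ofId R T) ≫ x := by
  classical
  let 𝔪 := IsLocalRing.maximalIdeal R
  let s₀ : Spec (CommRingCat.of R) := IsLocalRing.closedPoint R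
  obtain ⟨V, hV, hsV, -⟩ := exists_isAffineOpen_mem_and_subset (show β s₀ ∈ (⊤ : S.Opens) from trivial)
  have hxβ : ∀ q, X.hom (x.left q) = β q := fun q => by
    rw [← Scheme.Hom.comp_apply, Over.w x]
    show (Spec.map (CommRingCat.ofHom (algebraMap R R)) ≫ β) q = β q
    rw [show Spec.map (CommRingCat.ofHom (algebraMap R R)) = 𝟙 _ from Spec.map_id _, Category.id_comp]
  obtain ⟨W, hW, hsW, hWle⟩ := exists_isAffineOpen_mem_and_subset
    (show x.left s₀ ∈ X.hom ⁻¹ᵁ V by show X.hom (x.left s₀) ∈ V; rw [hxβ]; exact hsV)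
  have hWV : W ≤ X.hom ⁻¹ᵁ V := hWle
  have hgen : ∀ q : Spec (CommRingCat.of R), q ⤳ s₀ := fun q => IsLocalRing.specializes_closedPoint q
  have hxW : ∀ q, x.left q ∈ W := fun q => ((hgen q).map x.left.base.hom.continuous).mem_open W.isOpen hsW
  have hβ : ∀ q, β q ∈ V := fun q => ((hgen q).map β.base.hom.continuous).mem_open V.isOpen hsV
  let xT : ∀ (T : Type u) [CommRing T] [Algebra R T], sp β T ⟶ X := fun T _ _ => spm β (Algebra.ofId R T) ≫ x
  have hxT : ∀ {T T' : Type u} [CommRing T] [Algebra R T] [CommRing T'] [Algebra R T'] (φ : T →ₐ[R] T'),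
      spm β φ ≫ xT T = xT T' := fun {T T'} _ _ _ _ φ => by
    show spm β φ ≫ spm β (Algebra.ofId R T) ≫ x = _
    rw [← Category.assoc, spm_comp]
    congr 2
    exact Subsingleton.elim _ _
  have hxTW : ∀ (T : Type u) [CommRing T] [Algebra R T] (q), (xT T).left q ∈ W := fun T _ _ q => hxW _
  -- the universal point and the principal open
  let A := MonoidAlgebra R (Multiplicative M)
  let mA : Ideal A := 𝔪.map (algebraMap R A)
  let u₀ := univPt R (AddMonoidHom.id M)
  let y : sp β A ⟶ X := lift (χ A u₀) (xT A) ≫ a.act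
  let D : (Spec (CommRingCat.of A)).Opens := y.left ⁻¹ᵁ W
  have hDm : ∀ q : PrimeSpectrum A, mA ≤ q.asIdeal → q ∈ D := by
    intro q hq
    let φ : A →ₐ[R] A ⧸ mA := Ideal.Quotient.mkₐ R mA
    have hq' : q ∈ Set.range (spm β φ).left := by
      refine ⟨⟨q.asIdeal.map (Ideal.Quotient.mk mA), Ideal.map_isPrime_of_surjective Ideal.Quotient.mk_surjective
        (by rw [Ideal.mk_ker]; exact hq)⟩, PrimeSpectrum.ext ?_⟩
      show Ideal.comap (Ideal.Quotient.mk mA) (Ideal.map (Ideal.Quotient.mk mA) q.asIdeal) = q.asIdeal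
      rw [Ideal.comap_map_of_surjective _ Ideal.Quotient.mk_surjective, ← RingHom.ker_eq_comap_bot, Ideal.mk_ker]
      exact sup_eq_left.mpr hq
    obtain ⟨p, hp⟩ := hq'
    have h : spm β φ ≫ y = spm β φ ≫ xT A := by
      show spm β φ ≫ lift _ _ ≫ a.act = _
      rw [← Category.assoc, comp_lift, hnat, hxT]
      refine hfibm _ (fun r hr => ?_) _ _
      rw [IsScalarTower.algebraMap_apply R A (A ⧸ mA)]
      exact Ideal.Quotient.eq_zero_iff_mem.mpr (Ideal.mem_map_of_mem _ hr)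
    have h' : (spm β φ ≫ y).left p = (spm β φ ≫ xT A).left p := congrArg (fun m : sp β (A ⧸ mA) ⟶ X => m.left.base p) h
    show y.left q ∈ W
    rw [← hp]
    show (spm β φ ≫ y).left p ∈ W
    rw [h']
    exact hxTW A _
  obtain ⟨h, hh, hhD⟩ : ∃ h : A, h - 1 ∈ mA ∧ ∀ q : PrimeSpectrum A, h ∉ q.asIdeal → q ∈ D := by
    obtain ⟨J, hJ⟩ := (PrimeSpectrum.isClosed_iff_zeroLocus_ideal _).mp D.isOpen.isClosed_compl
    have hsup : J ⊔ mA = ⊤ := by
      by_contra hne
      obtain ⟨Q, hQ, hle⟩ := Ideal.exists_le_maximal _ hne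
      have hQD : (⟨Q, hQ.isPrime⟩ : PrimeSpectrum A) ∈ PrimeSpectrum.zeroLocus (J : Set A) := le_sup_left.trans hle
      rw [← hJ] at hQD
      exact hQD (hDm _ (le_sup_right.trans hle))
    obtain ⟨i, hi, j, hj, hij⟩ := Submodule.mem_sup.mp ((Ideal.eq_top_iff_one _).mp hsup)
    refine ⟨i, ?_, fun q hq => ?_⟩
    · rw [← hij, sub_add_cancel_left]
      exact neg_mem hj
    · by_contra hqD
      have : q ∈ PrimeSpectrum.zeroLocus (J : Set A) := by rw [← hJ]; exact hqD
      exact hq (this hi)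
  let Ah := Localization.Away h
  let φh : A →ₐ[R] Ah := IsScalarTower.toAlgHom R A Ah
  let y' : sp β Ah ⟶ X := spm β φh ≫ y
  have hyW : ∀ q, y'.left q ∈ W := fun q => hhD _ fun hm => by
    have hu : IsUnit (algebraMap A Ah h) := IsLocalization.Away.algebraMap_isUnit h
    exact (q : PrimeSpectrum Ah).isPrime.ne_top (Ideal.eq_top_of_isUnit_mem _ hm hu)
  obtain ⟨ex, hex⟩ := exists_ev hW (xT Ah) (hxTW Ah)
  obtain ⟨ey, hey⟩ := exists_ev hW y' hyW
  -- coefficients
  let σ := X.hom.appLE V W hWV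
  have hσ : Spec.map σ ≫ hV.fromSpec = hW.fromSpec ≫ X.hom := IsAffineOpen.SpecMap_appLE_fromSpec X.hom hV hW hWV
  have hbase : σ ≫ ey = σ ≫ ex := by
    apply Spec.map_injective
    rw [← cancel_mono hV.fromSpec, Spec.map_comp, Spec.map_comp, Category.assoc, Category.assoc, hσ,
      reassoc_of% hey, reassoc_of% hex, Over.w, Over.w]
  have hnum : ∀ t, ∃ (n : A) (k : ℕ), (ey.hom t - ex.hom t : Ah) * algebraMap A Ah h ^ k = algebraMap A Ah n :=
    fun t => by
      obtain ⟨k, n, hn⟩ := IsLocalization.Away.surj h (ey.hom t - ex.hom t : Ah)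
      exact ⟨n, k, hn⟩
  choose num k hnum using hnum
  let c : Ideal R := Ideal.span {r | ∃ t m, (num t).coeff m = r}
  have hcfg : c.FG := IsNoetherian.noetherian c
  have hnumc : ∀ t, num t ∈ c.map (algebraMap R A) := fun t =>
    mem_map_of_coeff fun m => Ideal.subset_span ⟨t, m, rfl⟩
  have hDc : ∀ v, (ey.hom v - ex.hom v : Ah) ∈ c.map (algebraMap R Ah) := by
    intro t
    have h2 : algebraMap A Ah (num t) ∈ c.map (algebraMap R Ah) := by
      rw [IsScalarTower.algebraMap_eq R A Ah, ← Ideal.map_map]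
      exact Ideal.mem_map_of_mem _ (hnumc t)
    rw [← hnum] at h2
    exact ((IsLocalization.Away.algebraMap_isUnit h).pow (k t) |> (Ideal.mul_unit_mem_iff_mem _)).mp h2
  have hfixc : ∀ (T : Type u) [CommRing T] [Algebra R T], (∀ r ∈ c, algebraMap R T r = 0) →
      ∀ (f : CoordM.{u} M →+* T), lift (χ T f) (xT T) ≫ a.act = xT T := fun T _ _ hT f => by
    refine fixed_of_dense a χ hnat hmul hh (xT T) (fun T' _ _ φ f' hu => ?_) f
    rw [hxT]
    let ρ₀ : A →ₐ[R] T' := evalChar (R := R) f'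
    have hpow : ∀ y : Submonoid.powers h, IsUnit (ρ₀ y) := by
      rintro ⟨_, n, rfl⟩
      show IsUnit (ρ₀ (h ^ n))
      rw [map_pow]
      exact hu.pow n
    let ρ : Ah →ₐ[R] T' := IsLocalization.liftAlgHom (M := Submonoid.powers h) (f := ρ₀) hpow
    have hρ : ρ.comp φh = ρ₀ := AlgHom.ext fun z => IsLocalization.lift_eq _ z
    have hTc : ∀ r ∈ c, algebraMap R T' r = 0 := fun r hr => by rw [← φ.commutes, hT r hr, map_zero]
    have hzero : ∀ d ∈ c.map (algebraMap R Ah), ρ d = 0 := fun d hd => by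
      refine (Ideal.map_le_iff_le_comap.mpr ?_ : c.map (algebraMap R Ah) ≤ RingHom.ker ρ.toRingHom) hd
      intro r hr
      show ρ (algebraMap R Ah r) = 0
      rw [ρ.commutes, hTc r hr]
    have h : spm β ρ ≫ y' = spm β ρ ≫ xT Ah := by
      refine Over.OverMorphism.ext ?_
      simp only [Over.comp_left, spm_left, ← hex, ← hey, ← Spec.map_comp_assoc]
      congr 2
      refine CommRingCat.hom_ext (RingHom.ext fun v => ?_)
      show ρ (ey.hom v) = ρ (ex.hom v)
      rw [← sub_eq_zero, ← map_sub]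
      exact hzero _ (hDc v)
    change spm β ρ ≫ spm β φh ≫ lift _ _ ≫ a.act = _ at h
    rw [← Category.assoc, spm_comp, hρ, ← Category.assoc, comp_lift, hnat, hxT, hxT] at h
    rwa [show ρ₀.toRingHom.comp u₀ = f' from HomKernelIdeal.evalChar_univ f'] at h
  have hmC : ∀ t (L : Ideal R), L ≤ 𝔪 → (ey.hom t - ex.hom t : Ah) ∈ L.map (algebraMap R Ah) →
      ∃ j : ℕ, h ^ j * num t ∈ L.map (algebraMap R A) := by
    intro t L _ hd
    have h2 : algebraMap A Ah (num t) ∈ (L.map (algebraMap R A)).map (algebraMap A Ah) := by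
      rw [Ideal.map_map, ← IsScalarTower.algebraMap_eq R A Ah, ← hnum]
      exact Ideal.mul_mem_right _ _ hd
    obtain ⟨⟨⟨n, hn⟩, ⟨_, j, rfl⟩⟩, he⟩ := (IsLocalization.mem_map_algebraMap_iff (Submonoid.powers h) Ah).mp h2
    rw [← map_mul] at he
    obtain ⟨⟨_, i, rfl⟩, hi⟩ := (IsLocalization.eq_iff_exists (Submonoid.powers h) Ah).mp he
    refine ⟨i + j, ?_⟩
    have hi' : h ^ i * (num t * h ^ j) = h ^ i * n := hi
    rw [pow_add, _root_.mul_assoc, _root_.mul_comm (h ^ j), hi']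
    exact Ideal.mul_mem_left _ _ hn
  have hevm : ∀ t, (ey.hom t - ex.hom t : Ah) ∈ 𝔪.map (algebraMap R Ah) := by
    refine ev_sub_mem hW ?_ hex hey
    show redMap 𝔪 Ah ≫ xT Ah = redMap 𝔪 Ah ≫ spm β φh ≫ lift _ _ ≫ a.act
    rw [← Category.assoc (spm β φh), comp_lift, hnat, hxT]
    exact (fix_mod a χ hnat hfibm _ (xT Ah)).symm
  have hcm : c ≤ 𝔪 := by
    refine Ideal.span_le.mpr ?_
    rintro _ ⟨t, m, rfl⟩
    refine coeff_mem ?_ m
    obtain ⟨j, hj⟩ := hmC t 𝔪 le_rfl (hevm t)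
    exact mem_of_pow_mul_mem (m := mA) (L := mA) (C := ⊤) (by rw [Ideal.mul_top]) hh Submodule.mem_top hj
  -- additivity modulo `m c`
  let L := 𝔪 * c
  let B := Ah ⧸ L.map (algebraMap R Ah)
  have hB : ∀ l ∈ L, algebraMap R B l = 0 := fun l hl => by
    rw [IsScalarTower.algebraMap_apply R Ah B]
    exact Ideal.Quotient.eq_zero_iff_mem.mpr (Ideal.mem_map_of_mem _ hl)
  have hBsq : ∀ l ∈ c, ∀ l' ∈ c, algebraMap R B (l * l') = 0 := fun l hl l' hl' =>
    hB _ (Ideal.mul_mem_mul (hcm hl) hl')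
  have key : ∀ f : CoordM.{u} M →+* B, lift (χ B f) (xT B) ≫ a.act = xT B := by
    refine step_affine a χ hnat hmul hV hβ (L := c) (B := B) hBsq hW hWV (xT B) (hxTW B) ?_ ?_
    · intro T _ _ φ f
      rw [hxT φ]
      unfold redMap
      rw [← Category.assoc, comp_lift, hnat, hxT]
      refine hfixc _ ?_ _
      intro r hr
      rw [IsScalarTower.algebraMap_apply R T (T ⧸ c.map (algebraMap R T))]
      exact Ideal.Quotient.eq_zero_iff_mem.mpr (Ideal.mem_map_of_mem _ hr)
    · intro T _ _ φ f z hz hzW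
      exact pair_fixed a χ hnat (L := c) (𝔪 := 𝔪) hW
        (fun r hr r' hr' => by rw [← φ.commutes, hB _ (Ideal.mul_mem_mul hr hr'), map_zero])
        (fun r hr r' hr' => by rw [← φ.commutes, hB _ (Ideal.mul_mem_mul (hcm hr) hr'), map_zero])
        f z hzW (fun T' _ _ hT' ρ => by
          have h1 : spm β ρ ≫ spm β (A := Pair c T) (pairFst c T) ≫ z = xT T' := by rw [hz, hxT φ, hxT ρ]
          rw [h1]
          exact hfixc T' hT' _) hfibm
  have hevL : ∀ t, (ey.hom t - ex.hom t : Ah) ∈ L.map (algebraMap R Ah) := by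
    refine ev_sub_mem hW ?_ hex hey
    show redMap L Ah ≫ xT Ah = redMap L Ah ≫ spm β φh ≫ lift _ _ ≫ a.act
    rw [← Category.assoc (spm β φh), comp_lift, hnat, hxT, ← Category.assoc (redMap L Ah) (lift _ _), comp_lift]
    unfold redMap
    rw [hnat, hxT]
    exact (key _).symm
  have hcL : c ≤ 𝔪 • c := by
    refine Ideal.span_le.mpr ?_
    rintro _ ⟨t, m, rfl⟩
    obtain ⟨j, hj⟩ := hmC t L Ideal.mul_le_left (hevL t)
    exact coeff_mem (J := 𝔪 * c) (mem_of_pow_mul_mem (m := mA) (C := c.map (algebraMap R A)) (by rw [← Ideal.map_mul]) hh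
      (hnumc t) hj) m
  have hc0 : c = ⊥ := Submodule.eq_bot_of_le_smul_of_le_jacobson_bot 𝔪 c hcfg hcL
    (IsLocalRing.jacobson_eq_maximalIdeal ⊥ bot_ne_top).ge
  exact hfixc T (fun r hr => by rw [hc0, Ideal.mem_bot] at hr; rw [hr, map_zero]) f

end Groth.Agent.SubNhd19
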