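import Groth.Agent.SubNhd19.ClosedFixedNoeth
import Groth.Agent.GrpSchLib.SubgroupEqLocus
import Groth.Agent.ConjEtale19.Split

/-!
# Subgroups of multiplicative type equal and central on a fibre are equal over the local ring
-/

universe u

open CategoryTheory CategoryTheory.Limits MonoidalCategory CartesianMonoidalCategory MonObj AlgebraicGeometry

set_option linter.style.haveILetI false

namespace Groth.Agent.SubNhd19

open DSPtsLib (CoordM)
open GrpSchLib.DiagActionRigid (sp spm)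
open GrpSchLib.SubgroupFactor (pull)
open GrpSchLib.SubgroupEqLocus (Le)

variable {S : Scheme.{u}} {G A B : Over S} [GrpObj G] [GrpObj A] [GrpObj B]

/-- Two groups of multiplicative type split simultaneously on an etale neighbourhood. -/
theorem exists_split_pair (hA : SGA3x.IsMultTypeFT A) (hB : SGA3x.IsMultTypeFT B) (s : S) :
    ∃ (E : CommRingCat.{u}) (f : Spec E ⟶ S) (e : Spec E) (MA : Type) (_ : AddCommGroup MA) (MB : Type)
      (_ : AddCommGroup MB), Etale f ∧ f e = s ∧ AddGroup.FG MA ∧ AddGroup.FG MB ∧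
      Nonempty (Grp.mk (Red.bc f A) ≅ Grp.mk (Red.DS (Spec E) MA)) ∧
      Nonempty (Grp.mk (Red.bc f B) ≅ Grp.mk (Red.DS (Spec E) MB)) := by
  obtain ⟨E₁, b₁, y₁, MA, iA, hb₁, hy₁, hMA, ⟨eA⟩⟩ := ConjEtale19.exists_etale_split hA s
  obtain ⟨E, b₂, y, MB, iB, hb₂, hy₂, hMB, ⟨eB⟩⟩ :=
    ConjEtale19.exists_etale_split (GrpSchLib.MultTypeBC.isMultTypeFT_bc b₁ hB) y₁
  obtain ⟨dA⟩ := GrpSchLib.AffineHopf.nonempty_DS_iso E₁ MA
  obtain ⟨dB⟩ := GrpSchLib.AffineHopf.nonempty_DS_iso E MB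
  obtain ⟨iA'⟩ := GrpSchLib.MultTypeBC.bc_iso b₂ (eA ≪≫ dA)
  obtain ⟨dA'⟩ := GrpSchLib.MultTypeBC.bc_DS b₂ MA
  obtain ⟨cA⟩ := GrpSchLib.MultTypeBC.bc_bc b₂ b₁ A
  obtain ⟨cB⟩ := GrpSchLib.MultTypeBC.bc_bc b₂ b₁ B
  refine ⟨E, b₂ ≫ b₁, y, MA, iA, MB, iB, inferInstance, ?_, hMA, hMB, ⟨cA.symm ≪≫ iA' ≪≫ dA'⟩,
    ⟨cB.symm ≪≫ eB ≪≫ dB⟩⟩
  rw [Scheme.Hom.comp_apply, hy₂]
  exact hy₁

section Act

variable (iA : A ⟶ G) [IsMonHom iA] (iB : B ⟶ G) [IsMonHom iB]

/-- The action `(a, b) · z = a z b⁻¹`. -/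
noncomputable def lrAction : AlgGrp.Action (A ⊗ B) G where
  act := (fst (A ⊗ B) G ≫ fst A B ≫ iA) * snd (A ⊗ B) G * (fst (A ⊗ B) G ≫ snd A B ≫ iB)⁻¹
  one_act := by
    have h1 : η[A ⊗ B] ≫ fst A B ≫ iA = 1 := by
      rw [← Category.assoc, show η[A ⊗ B] ≫ fst A B = η[A] from IsMonHom.one_hom (f := fst A B), IsMonHom.one_hom,
        Hom.one_def, toUnit_unique (toUnit _) (𝟙 _), Category.id_comp]
    have h2 : η[A ⊗ B] ≫ snd A B ≫ iB = 1 := by
      rw [← Category.assoc, show η[A ⊗ B] ≫ snd A B = η[B] from IsMonHom.one_hom (f := snd A B), IsMonHom.one_hom,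
        Hom.one_def, toUnit_unique (toUnit _) (𝟙 _), Category.id_comp]
    rw [MonObj.comp_mul, MonObj.comp_mul, GrpObj.comp_inv, whiskerRight_fst_assoc, whiskerRight_fst_assoc,
      whiskerRight_snd, h1, h2, MonObj.comp_one, inv_one, _root_.mul_one, _root_.one_mul, leftUnitor_hom]
  mul_act := by
    have h1 : μ[A ⊗ B] ≫ fst A B ≫ iA =
        (fst (A ⊗ B) (A ⊗ B) ≫ fst A B ≫ iA) * (snd (A ⊗ B) (A ⊗ B) ≫ fst A B ≫ iA) := by
      rw [IsMonHom.mul_hom (f := fst A B ≫ iA), Hom.mul_def]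
      congr 1
    have h2 : μ[A ⊗ B] ≫ snd A B ≫ iB =
        (fst (A ⊗ B) (A ⊗ B) ≫ snd A B ≫ iB) * (snd (A ⊗ B) (A ⊗ B) ≫ snd A B ≫ iB) := by
      rw [IsMonHom.mul_hom (f := snd A B ≫ iB), Hom.mul_def]
      congr 1
    simp only [MonObj.comp_mul, GrpObj.comp_inv, whiskerRight_fst_assoc, whiskerRight_snd, whiskerLeft_fst_assoc,
      whiskerLeft_snd, whiskerLeft_snd_assoc, associator_hom_fst_assoc, associator_hom_snd_fst_assoc,
      associator_hom_snd_snd, h1, h2, _root_.mul_inv_rev, _root_.mul_assoc]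

theorem lrAction_act {Y : Over S} (g : Y ⟶ A ⊗ B) (z : Y ⟶ G) :
    lift g z ≫ (lrAction iA iB).act = (g ≫ fst A B ≫ iA) * z * (g ≫ snd A B ≫ iB)⁻¹ := by
  show lift g z ≫ ((fst (A ⊗ B) G ≫ fst A B ≫ iA) * snd (A ⊗ B) G * (fst (A ⊗ B) G ≫ snd A B ≫ iB)⁻¹) = _
  rw [MonObj.comp_mul, MonObj.comp_mul, GrpObj.comp_inv, lift_fst_assoc, lift_fst_assoc, lift_snd]

end Act

variable (iA : A ⟶ G) [IsMonHom iA] [IsImmersion iA.left] (iB : B ⟶ G) [IsMonHom iB]

/-- A subgroup of multiplicative type central on a fibre which contains another one on this fibre contains it over the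
local ring. -/
theorem le_stalk (hA : SGA3x.IsMultTypeFT A) (hB : SGA3x.IsMultTypeFT B)
    (hfin : IsLocallyNoetherian S ∨ LocallyOfFiniteType G.hom) (s : S)
    (hle : Le iA iB (S.fromSpecResidueField s))
    (hc : ∀ (Y : Over S) (_ : Y ⟶ Over.mk (S.fromSpecResidueField s)) (g : Y ⟶ G) (a : Y ⟶ A),
      g * (a ≫ iA) = (a ≫ iA) * g) :
    Le iA iB (S.fromSpecStalk s) := by
  classical
  haveI : Mono iA := Over.mono_of_mono_left _
  obtain ⟨E, f, e, MA, iMA, MB, iMB, hf, hes, hMA, hMB, ⟨eA⟩, ⟨eB⟩⟩ := exists_split_pair hA hB s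
  subst hes
  let R : Type u := (Spec E).presheaf.stalk e
  haveI : IsLocalRing R := inferInstanceAs (IsLocalRing ((Spec E).presheaf.stalk e))
  have hNoeth : IsLocallyNoetherian S → IsNoetherianRing R := fun h => by
    haveI := h
    haveI := LocallyOfFiniteType.isLocallyNoetherian f
    exact inferInstanceAs (IsNoetherianRing ((Spec E).presheaf.stalk e))
  let jR : Spec (CommRingCat.of R) ⟶ Spec E := (Spec E).fromSpecStalk e
  let β : Spec (CommRingCat.of R) ⟶ S := jR ≫ f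
  -- `Spec R` covers the spectrum of the local ring of `s`
  let l : Spec (CommRingCat.of R) ⟶ Spec (S.presheaf.stalk (f e)) := Spec.map (f.stalkMap e)
  have hl : l ≫ S.fromSpecStalk (f e) = β := Scheme.SpecMap_stalkMap_fromSpecStalk f
  have hflat : (f.stalkMap e).hom.Flat := Flat.stalkMap f e
  haveI : Flat l := Flat.SpecMap_iff.mpr hflat
  haveI : Surjective l := ⟨by
    letI := (f.stalkMap e).hom.toAlgebra
    haveI : Module.Flat (S.presheaf.stalk (f e)) R := hflat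
    haveI : IsLocalHom (algebraMap (S.presheaf.stalk (f e)) R) := inferInstanceAs (IsLocalHom (f.stalkMap e).hom)
    haveI := Module.FaithfullyFlat.of_flat_of_isLocalHom (A := S.presheaf.stalk (f e)) (B := R)
    exact PrimeSpectrum.comap_surjective_of_faithfullyFlat (A := S.presheaf.stalk (f e)) (B := R)⟩
  haveI : QuasiCompact l := by
    haveI : IsAffineHom l := isAffineHom_of_isAffine _
    infer_instance
  refine GrpSchLib.SubgroupEqLocus.Le.of_covers l
    (FpqcDescLib.covers_of_isCovering (FpqcDescLib.isCovering_of_quasiCompact l)) ?_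
  rw [hl]
  -- characters
  obtain ⟨χA, hAnat, hAmul, hAbij⟩ := GrpSchLib.SubgroupFactor.exists_char (β := β) f eA jR rfl
  obtain ⟨χB, hBnat, hBmul, hBbij⟩ := GrpSchLib.SubgroupFactor.exists_char (β := β) f eB jR rfl
  let 𝔪 := IsLocalRing.maximalIdeal R
  let k : Type u := R ⧸ 𝔪
  haveI : IsLocalRing k := IsLocalRing.of_surjective' (Ideal.Quotient.mk 𝔪) Ideal.Quotient.mk_surjective
  -- test schemes over the closed point lie over the residue field
  have hto : ∀ (T : Type u) [CommRing T] [Algebra R T], (∀ r ∈ 𝔪, algebraMap R T r = 0) →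
      Nonempty (sp β T ⟶ Over.mk (S.fromSpecResidueField (f e))) := by
    intro T _ _ hT
    let ψ : ((Spec E).residueField e : Type u) →+* T := Ideal.Quotient.lift 𝔪 (algebraMap R T) hT
    let ψ' : (Spec E).residueField e ⟶ CommRingCat.of T := CommRingCat.ofHom ψ
    refine ⟨Over.homMk (Spec.map ψ' ≫ Spec.map (f.residueFieldMap e)) ?_⟩
    show (Spec.map ψ' ≫ Spec.map (f.residueFieldMap e)) ≫ S.fromSpecResidueField (f e) =
      Spec.map (CommRingCat.ofHom (algebraMap R T)) ≫ β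
    rw [Category.assoc, Scheme.Hom.SpecMap_residueFieldMap_fromSpecResidueField, Scheme.fromSpecResidueField,
      Category.assoc, ← Category.assoc, ← Spec.map_comp]
    rfl
  obtain ⟨φ, hφ⟩ := GrpSchLib.SubgroupEqLocus.exists_phi χA hAnat hAmul hAbij χB hBnat hBmul (iA := iA) (iB := iB)
    (T := k) (hle _ (hto _ fun r hr => by
      rw [IsScalarTower.algebraMap_apply R k (MonoidAlgebra k (Multiplicative MB)),
        show algebraMap R k r = 0 from Ideal.Quotient.eq_zero_iff_mem.mpr hr, map_zero]).some _)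
  let χ : ∀ (T : Type u) [CommRing T] [Algebra R T], (CoordM.{u} MB →+* T) → (sp β T ⟶ A ⊗ B) :=
    fun T _ _ c => lift (χA T (pull φ c)) (χB T c)
  have hnat : ∀ {T₁ T₂ : Type u} [CommRing T₁] [Algebra R T₁] [CommRing T₂] [Algebra R T₂] (g : T₁ →ₐ[R] T₂)
      (c : CoordM.{u} MB →+* T₁), spm β g ≫ χ T₁ c = χ T₂ (g.toRingHom.comp c) := by
    intro T₁ T₂ _ _ _ _ g c
    show spm β g ≫ lift _ _ = _
    rw [comp_lift, hAnat, hBnat]
    rfl
  have hmul : ∀ {T₁ : Type u} [CommRing T₁] [Algebra R T₁] (c c' d : CoordM.{u} MB →+* T₁),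
      (∀ m, d (MonoidAlgebra.single m 1) = c (MonoidAlgebra.single m 1) * c' (MonoidAlgebra.single m 1)) →
        χ T₁ c * χ T₁ c' = χ T₁ d := by
    intro T₁ _ _ c c' d hd
    refine CartesianMonoidalCategory.hom_ext _ _ ?_ ?_
    · rw [MonObj.mul_comp, lift_fst, lift_fst, lift_fst]
      exact hAmul _ _ _ fun m => by
        rw [GrpSchLib.SubgroupFactor.pull_single, GrpSchLib.SubgroupFactor.pull_single,
          GrpSchLib.SubgroupFactor.pull_single, hd]
    · rw [MonObj.mul_comp, lift_snd, lift_snd, lift_snd]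
      exact hBmul _ _ _ hd
  have hfibm : ∀ (T : Type u) [CommRing T] [Algebra R T], (∀ r ∈ 𝔪, algebraMap R T r = 0) →
      ∀ (c : CoordM.{u} MB →+* T) (z : sp β T ⟶ G), lift (χ T c) z ≫ (lrAction iA iB).act = z := by
    intro T _ _ hT c z
    have he : χA T (pull φ c) ≫ iA = χB T c ≫ iB :=
      hφ T (AlgHom.mk (Ideal.Quotient.lift 𝔪 (algebraMap R T) hT) fun r => rfl) c
    rw [lrAction_act, lift_fst_assoc, lift_snd_assoc, ← hc _ (hto T hT).some z, he, mul_inv_cancel_right]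
  have hmain : ∀ (T : Type u) [CommRing T] [Algebra R T] (c : CoordM.{u} MB →+* T),
      χA T (pull φ c) ≫ iA = χB T c ≫ iB := by
    intro T _ _ c
    have h : lift (χ T c) (spm β (Algebra.ofId R T) ≫ (1 : sp β R ⟶ G)) ≫ (lrAction iA iB).act =
        spm β (Algebra.ofId R T) ≫ (1 : sp β R ⟶ G) := by
      rcases hfin with hN | hG
      · haveI := hNoeth hN
        exact fixed_of_closedFibre (lrAction iA iB) χ hnat hmul hfibm 1 T c
      · exact GrpSchLib.ClosedFibreFixed.fixed_of_closedFibre (lrAction iA iB) χ hnat hmul hfibm 1 T c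
    rwa [lrAction_act, MonObj.comp_one, _root_.mul_one, mul_inv_eq_one, lift_fst_assoc, lift_snd_assoc] at h
  intro Y p b
  refine GrpSchLib.SubgroupEqLocus.exists_factor_of_stalks b fun z => ?_
  let T : Type u := Y.left.presheaf.stalk z
  obtain ⟨ρ, hρ⟩ : ∃ ρ, Spec.map ρ = Y.left.fromSpecStalk z ≫ p.left := ⟨_, Spec.map_preimage _⟩
  letI : Algebra R T := ρ.hom.toAlgebra
  let t : sp β T ⟶ Y := Over.homMk (Y.left.fromSpecStalk z) (by
    show Y.left.fromSpecStalk z ≫ Y.hom = Spec.map (CommRingCat.ofHom (algebraMap R T)) ≫ β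
    rw [← Over.w p, ← Category.assoc, ← hρ]
    rfl)
  obtain ⟨c, hc'⟩ := (hBbij T).2 (t ≫ b)
  refine ⟨(χA T (pull φ c)).left, ?_⟩
  rw [← Over.comp_left, hmain, hc', Category.assoc, Over.comp_left]
  rfl

end Groth.Agent.SubNhd19
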