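import Groth.Agent.SubNhd19.Local
import Groth.Agent.CentLift19.Subgroup
import Groth.Agent.MultDefLib.SubgroupTransp
import Groth.Agent.AlgSpPts.Sep

/-!
# From a local ring to a neighbourhood
-/

universe u

open CategoryTheory CategoryTheory.Limits MonoidalCategory CartesianMonoidalCategory MonObj AlgebraicGeometry

set_option linter.style.haveILetI false

namespace Groth.Agent.SubNhd19

open GrpSchLib.SubgroupEqLocus (Le)

/-- An immersion into an affine scheme over which a localisation factors is an isomorphism over a principal open. -/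
theorem exists_section_away {C : Type u} [CommRing C] (M : Submonoid C) {P : Scheme.{u}}
    (j : P ⟶ Spec (CommRingCat.of C)) [IsImmersion j] (hfg : IsNoetherianRing C ∨ LocallyOfFinitePresentation j)
    (d : Spec (CommRingCat.of (Localization M)) ⟶ P)
    (hd : d ≫ j = Spec.map (CommRingCat.ofHom (algebraMap C (Localization M)))) :
    ∃ m ∈ M, ∃ l : Spec (CommRingCat.of (Localization.Away m)) ⟶ P,
      l ≫ j = Spec.map (CommRingCat.ofHom (algebraMap C (Localization.Away m))) := by
  classical
  let W := j.coborderRange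
  let i := j.liftCoborder
  have hi : i ≫ W.ι = j := j.liftCoborder_ι
  -- a principal open inside the open part
  obtain ⟨r, hrM, hrW⟩ : ∃ r ∈ M, ∀ q : PrimeSpectrum C, r ∉ q.asIdeal → q ∈ W := by
    obtain ⟨I, hI⟩ := (PrimeSpectrum.isClosed_iff_zeroLocus_ideal _).mp W.isOpen.isClosed_compl
    have hdis : ¬ Disjoint (M : Set C) (I : Set C) := by
      intro hdis
      obtain ⟨q, hq, hIq, hqM⟩ := Ideal.exists_le_prime_disjoint I M hdis.symm
      have hqD : (⟨q, hq⟩ : PrimeSpectrum C) ∈ Set.range (PrimeSpectrum.comap (algebraMap C (Localization M))) := by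
        rw [PrimeSpectrum.localization_comap_range (Localization M) M]
        exact hqM.symm
      obtain ⟨z, hz⟩ := hqD
      have h1 : (⟨q, hq⟩ : PrimeSpectrum C) ∈ PrimeSpectrum.zeroLocus (I : Set C) := hIq
      rw [← hI] at h1
      refine h1 ?_
      rw [← hz]
      show Spec.map (CommRingCat.ofHom (algebraMap C (Localization M))) z ∈ W
      rw [← hd, ← hi, Scheme.Hom.comp_apply, Scheme.Hom.comp_apply]
      exact ((i (d z)) : W).2
    obtain ⟨r, hr1, hr2⟩ := Set.not_disjoint_iff.mp hdis
    refine ⟨r, hr1, fun q hq => ?_⟩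
    by_contra hqW
    have : q ∈ PrimeSpectrum.zeroLocus (I : Set C) := by rw [← hI]; exact hqW
    exact hq (this hr2)
  let C' := Localization.Away r
  let a₁ : Spec (CommRingCat.of C') ⟶ Spec (CommRingCat.of C) := Spec.map (CommRingCat.ofHom (algebraMap C C'))
  have ha₁ : Set.range a₁ ⊆ Set.range W.ι := by
    rintro _ ⟨z, rfl⟩
    rw [Scheme.Opens.range_ι]
    refine hrW _ fun h => z.isPrime.ne_top (Ideal.eq_top_of_isUnit_mem _ h (IsLocalization.Away.algebraMap_isUnit r))
  let g := IsOpenImmersion.lift W.ι a₁ ha₁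
  have hg : g ≫ W.ι = a₁ := IsOpenImmersion.lift_fac _ _ _
  obtain ⟨K, e, he⟩ := IsClosedImmersion.Spec_iff.mp (inferInstance : IsClosedImmersion (pullback.snd i g))
  have hK : K.FG := by
    rcases hfg with hN | hj
    · exact IsNoetherian.noetherian K
    · haveI := hj
      haveI : LocallyOfFinitePresentation (i ≫ W.ι) := by rw [hi]; exact hj
      haveI : LocallyOfFinitePresentation i := AlgSpPts.locallyOfFinitePresentation_of_comp i W.ι
      haveI : LocallyOfFinitePresentation (Spec.map (CommRingCat.ofHom (Ideal.Quotient.mk K))) := by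
        rw [← Iso.inv_hom_id_assoc e (Spec.map (CommRingCat.ofHom (Ideal.Quotient.mk K))), ← he]
        infer_instance
      have hfp : (Ideal.Quotient.mk K).FinitePresentation :=
        (LocallyOfFinitePresentation.SpecMap_iff (CommRingCat.ofHom (Ideal.Quotient.mk K))).mp inferInstance
      letI : Algebra C' (C' ⧸ K) := Ideal.Quotient.algebra C'
      haveI : Algebra.FinitePresentation C' (C' ⧸ K) := RingHom.finitePresentation_algebraMap.mp hfp
      have := Algebra.FinitePresentation.ker_fG_of_surjective (Ideal.Quotient.mkₐ C' K) Ideal.Quotient.mk_surjective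
      exact (Ideal.mk_ker (I := K)) ▸ this
  -- the localisation lies in the closed subscheme
  let ρ : C' →+* Localization M :=
    IsLocalization.Away.lift r (g := algebraMap C (Localization M)) (IsLocalization.map_units _ ⟨r, hrM⟩)
  have hρ : Spec.map (CommRingCat.ofHom ρ) ≫ a₁ = Spec.map (CommRingCat.ofHom (algebraMap C (Localization M))) := by
    rw [← Spec.map_comp, ← CommRingCat.ofHom_comp, IsLocalization.Away.lift_comp]
  let d' : Spec (CommRingCat.of (Localization M)) ⟶ pullback i g :=
    pullback.lift d (Spec.map (CommRingCat.ofHom ρ)) (by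
      rw [← cancel_mono W.ι, Category.assoc, Category.assoc, hi, hg, hρ, hd])
  have hker : ∀ x ∈ K, ρ x = 0 := fun x hx => by
    obtain ⟨θ, hθ⟩ : ∃ θ, Spec.map θ = d' ≫ e.hom := ⟨_, Spec.map_preimage _⟩
    have h : CommRingCat.ofHom ρ = CommRingCat.ofHom (Ideal.Quotient.mk K) ≫ θ := by
      apply Spec.map_injective
      rw [Spec.map_comp, hθ, Category.assoc, ← he, pullback.lift_snd]
    have := congrArg (fun k => k.hom x) h
    simp only [CommRingCat.hom_ofHom, CommRingCat.hom_comp, RingHom.comp_apply] at this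
    rw [this, Ideal.Quotient.eq_zero_iff_mem.mpr hx, map_zero]
  obtain ⟨F, hF⟩ := hK
  have hann : ∀ (x : C'), x ∈ F → ∃ m ∈ M, algebraMap C C' m * x = 0 := fun x hx => by
    obtain ⟨n, c, hc⟩ := IsLocalization.Away.surj r x
    have h1 : algebraMap C (Localization M) c = 0 := by
      rw [← IsLocalization.Away.lift_eq (S := C') r (IsLocalization.map_units (Localization M) ⟨r, hrM⟩) c]
      show ρ (algebraMap C C' c) = 0
      rw [← hc, map_mul, hker x (hF ▸ Ideal.subset_span hx), zero_mul]
    obtain ⟨⟨m, hm⟩, hmc⟩ := (IsLocalization.map_eq_zero_iff M _ c).mp h1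
    refine ⟨m, hm, (IsUnit.mul_left_eq_zero ((IsLocalization.Away.algebraMap_isUnit r).pow n)).mp ?_⟩
    rw [_root_.mul_assoc, hc, ← map_mul, hmc, map_zero]
  choose! m hmM hm using hann
  let m₀ := ∏ x ∈ F, m x
  have hm₀ : m₀ ∈ M := prod_mem hmM
  let C'' := Localization.Away (r * m₀)
  have hu : IsUnit (algebraMap C C'' r) ∧ IsUnit (algebraMap C C'' m₀) := by
    rw [← IsUnit.mul_iff, ← map_mul]
    exact IsLocalization.Away.algebraMap_isUnit (r * m₀)
  let π : C' →+* C'' := IsLocalization.Away.lift r hu.1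
  have hπK : ∀ x ∈ K, π x = 0 := by
    intro x hx
    refine (show K ≤ RingHom.ker π from ?_) hx
    rw [← hF, Ideal.span_le]
    intro y hy
    show π y = 0
    obtain ⟨v, hv⟩ : m y ∣ m₀ := Finset.dvd_prod_of_mem m hy
    have h0 : algebraMap C C' m₀ * y = 0 := by rw [hv, map_mul, _root_.mul_right_comm, hm y hy, zero_mul]
    have h1 : π (algebraMap C C' m₀) * π y = 0 := by rw [← map_mul, h0, map_zero]
    rw [IsLocalization.Away.lift_eq r hu.1 m₀] at h1
    exact (IsUnit.mul_right_eq_zero hu.2).mp h1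
  refine ⟨r * m₀, mul_mem hrM hm₀,
    Spec.map (CommRingCat.ofHom (Ideal.Quotient.lift K π hπK)) ≫ e.inv ≫ pullback.fst i g, ?_⟩
  have hP : pullback.fst i g ≫ j = pullback.snd i g ≫ a₁ :=
    (congrArg (_ ≫ ·) hi.symm).trans ((pullback.condition_assoc W.ι).trans (congrArg (_ ≫ ·) hg))
  rw [Category.assoc, Category.assoc, hP, he, Category.assoc, Iso.inv_hom_id_assoc, ← Category.assoc, ← Spec.map_comp,
    ← CommRingCat.ofHom_comp, Ideal.Quotient.lift_comp_mk, ← Spec.map_comp, ← CommRingCat.ofHom_comp,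
    IsLocalization.Away.lift_comp]

variable {S : Scheme.{u}} {G A B : Over S} [GrpObj G] [GrpObj A] [GrpObj B]
  (iA : A ⟶ G) [IsImmersion iA.left] (iB : B ⟶ G)

/-- A containment over a local ring holds on a neighbourhood. -/
theorem le_nhd (hA : SGA3x.IsMultTypeFT A) (hB : SGA3x.IsMultTypeFT B)
    (hfin : IsLocallyNoetherian S ∨ LocallyOfFiniteType G.hom) (s : S) (h : Le iA iB (S.fromSpecStalk s)) :
    ∃ U : S.Opens, s ∈ U ∧ Le iA iB U.ι := by
  obtain ⟨V, hV, hsV, -⟩ := exists_isAffineOpen_mem_and_subset (TopologicalSpace.Opens.mem_top s)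
  haveI := CentLift19.isAffineHom_multTypeFT hB
  haveI := MultDefLib.lfp_multTypeFT hA
  haveI := MultDefLib.lfp_multTypeFT hB
  have hW : IsAffineOpen (B.hom ⁻¹ᵁ V) := hV.preimage B.hom
  let σ := B.hom.appLE V (B.hom ⁻¹ᵁ V) le_rfl
  have hσ : Spec.map σ ≫ hV.fromSpec = hW.fromSpec ≫ B.hom := IsAffineOpen.SpecMap_appLE_fromSpec B.hom hV hW le_rfl
  let C : Type u := Γ(B.left, B.hom ⁻¹ᵁ V)
  let M : Submonoid C := ((hV.primeIdealOf ⟨s, hsV⟩).asIdeal.primeCompl).map σ.hom
  let f : Spec (CommRingCat.of C) ⟶ G.left := hW.fromSpec ≫ iB.left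
  let j := pullback.snd iA.left f
  have hfg : IsNoetherianRing C ∨ LocallyOfFinitePresentation j := by
    rcases hfin with hN | hG
    · haveI := hN
      haveI := LocallyOfFiniteType.isLocallyNoetherian B.hom
      exact Or.inl (IsLocallyNoetherian.component_noetherian ⟨_, hW⟩)
    · haveI : LocallyOfFinitePresentation (iA.left ≫ G.hom) := by rw [Over.w]; infer_instance
      haveI := AlgSpPts.locallyOfFinitePresentation_of_comp iA.left G.hom
      exact Or.inr inferInstance
  -- the localisation lies over the local ring of `s`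
  letI : Algebra Γ(S, V) (S.presheaf.stalk s) := (S.presheaf.germ V s hsV).hom.toAlgebra
  haveI := hV.isLocalization_stalk ⟨s, hsV⟩
  let τ₀ : (S.presheaf.stalk s : Type u) →+* Localization M :=
    IsLocalization.lift (M := (hV.primeIdealOf ⟨s, hsV⟩).asIdeal.primeCompl) (S := (S.presheaf.stalk s : Type u))
      (g := (algebraMap C (Localization M)).comp σ.hom)
      fun x => IsLocalization.map_units (Localization M) ⟨σ.hom x.1, Submonoid.mem_map_of_mem σ.hom x.2⟩
  let τ : S.presheaf.stalk s ⟶ CommRingCat.of (Localization M) := CommRingCat.ofHom τ₀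
  have hτ : Spec.map τ ≫ S.fromSpecStalk s =
      Spec.map (CommRingCat.ofHom (algebraMap C (Localization M))) ≫ hW.fromSpec ≫ B.hom := by
    have h1 : S.presheaf.germ V s hsV ≫ τ = σ ≫ CommRingCat.ofHom (algebraMap C (Localization M)) :=
      CommRingCat.hom_ext (IsLocalization.lift_comp _)
    rw [← hV.fromSpecStalk_eq_fromSpecStalk hsV, IsAffineOpen.fromSpecStalk, ← Category.assoc, ← Spec.map_comp, h1,
      Spec.map_comp, Category.assoc, hσ]
  let Y : Over S := Over.mk (Spec.map (CommRingCat.ofHom (algebraMap C (Localization M))) ≫ hW.fromSpec ≫ B.hom)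
  let bY : Y ⟶ B := Over.homMk (Spec.map (CommRingCat.ofHom (algebraMap C (Localization M))) ≫ hW.fromSpec)
    (Category.assoc _ _ _)
  obtain ⟨a, ha⟩ := h Y (Over.homMk (Spec.map τ) hτ) bY
  have ha' : a.left ≫ iA.left = Spec.map (CommRingCat.ofHom (algebraMap C (Localization M))) ≫ f :=
    (congrArg CommaMorphism.left ha).trans (Category.assoc _ _ _)
  obtain ⟨_, ⟨x, hx, rfl⟩, l, hl⟩ :=
    exists_section_away M j hfg (pullback.lift a.left _ ha') (pullback.lift_snd _ _ _)
  let c : Spec (CommRingCat.of (Localization.Away (σ.hom x))) ⟶ B.left :=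
    Spec.map (CommRingCat.ofHom (algebraMap C (Localization.Away (σ.hom x)))) ≫ hW.fromSpec
  haveI : IsOpenImmersion (Spec.map (CommRingCat.ofHom (algebraMap C (Localization.Away (σ.hom x))))) :=
    IsOpenImmersion.of_isLocalization (σ.hom x)
  haveI : IsOpenImmersion c := inferInstanceAs (IsOpenImmersion (_ ≫ hW.fromSpec))
  refine ⟨S.basicOpen x, ?_, fun T p b => ?_⟩
  · rw [Scheme.mem_basicOpen _ _ _ hsV]
    exact IsLocalization.map_units (S.presheaf.stalk s) ⟨x, hx⟩
  · have hr : Set.range b.left.base ⊆ Set.range c.base := by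
      rintro _ ⟨z, rfl⟩
      have hz : B.hom (b.left z) ∈ S.basicOpen x := by
        rw [← Scheme.Hom.comp_apply, Over.w b, ← Over.w p, Scheme.Hom.comp_apply]
        exact (p.left z : (S.basicOpen x : Set S)).2
      obtain ⟨w, hw⟩ : b.left z ∈ Set.range hW.fromSpec := by
        rw [hW.range_fromSpec]
        exact S.basicOpen_le x hz
      have hw' : w ∈ PrimeSpectrum.basicOpen (σ.hom x) := by
        have h2 : hW.fromSpec w ∈ B.hom ⁻¹ᵁ S.basicOpen x := hw ▸ hz
        have h3 : B.hom ⁻¹ᵁ S.basicOpen x = B.left.basicOpen (σ.hom x) := by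
          rw [Scheme.preimage_basicOpen]
          exact congrArg B.left.basicOpen (congrArg (fun k => k.hom x) (Scheme.Hom.app_eq_appLE (f := B.hom) (U := V)))
        rw [h3] at h2
        exact (hW.fromSpec_preimage_basicOpen (σ.hom x)).le h2
      obtain ⟨w', rfl⟩ : w ∈ Set.range (PrimeSpectrum.comap (algebraMap C (Localization.Away (σ.hom x)))) := by
        rw [PrimeSpectrum.localization_away_comap_range (Localization.Away (σ.hom x)) (σ.hom x)]
        exact hw'
      exact ⟨w', (Scheme.Hom.comp_apply _ _ _).trans hw⟩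
    let aL := IsOpenImmersion.lift c b.left hr ≫ l ≫ pullback.fst iA.left f
    have haL : aL ≫ iA.left = (b ≫ iB).left := by
      show (IsOpenImmersion.lift c b.left hr ≫ l ≫ pullback.fst iA.left f) ≫ iA.left = b.left ≫ iB.left
      rw [Category.assoc, Category.assoc, pullback.condition, ← Category.assoc l]
      show _ ≫ (l ≫ j) ≫ f = _
      rw [hl]
      show _ ≫ _ ≫ hW.fromSpec ≫ iB.left = _
      rw [← Category.assoc (Spec.map _)]
      show _ ≫ c ≫ iB.left = _
      rw [IsOpenImmersion.lift_fac_assoc]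
    refine ⟨Over.homMk aL ?_, Over.OverMorphism.ext haL⟩
    rw [← Over.w iA, ← Category.assoc, haL, Over.w]

end Groth.Agent.SubNhd19
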